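import Groth.Agent.PlaneCurve70.Auto
import Groth.Agent.CAlg48.PSEval
import Groth.Agent.PSLoc.Basic
import Groth.Agent.ArtFunLib.PowerSeries
import Mathlib.RingTheory.Flat.EquationalCriterion

/-!
# Presentations of flat complete algebras by power series
-/

set_option autoImplicit false
set_option linter.style.haveILetI false

universe u

noncomputable section

namespace Groth.Agent.NodeInv70

open IsLocalRing

theorem ker_inf_smul_le {R S P : Type*} [CommRing R] [CommRing S] [Algebra R S] [Module.Flat R S]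
    [CommRing P] [Algebra R P] (ψ : P →ₐ[R] S) (hψ : Function.Surjective ψ) (I : Ideal R)
    {f : P} (hf : f ∈ RingHom.ker ψ) (hI : f ∈ I.map (algebraMap R P)) :
    f ∈ I.map (algebraMap R P) • (RingHom.ker ψ) := by
  obtain ⟨n, a, p, hfe⟩ : ∃ (n : ℕ) (a : Fin n → I) (p : Fin n → P), f = ∑ i, algebraMap R P (a i) * p i := by
    rw [Ideal.map, Ideal.span, Submodule.mem_span_set'] at hI
    obtain ⟨n, c, g, h⟩ := hI
    choose a ha hag using fun i => (g i).2
    exact ⟨n, fun i => ⟨a i, ha i⟩, c, by rw [← h]; simp [hag, mul_comm]⟩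
  have h0 : ∑ i, (a i : R) • ψ (p i) = 0 := by
    have := RingHom.mem_ker.1 hf
    rw [hfe, map_sum] at this
    simpa [Algebra.smul_def] using this
  obtain ⟨m, c, y, hy, hc⟩ := Module.Flat.isTrivialRelation_of_sum_smul_eq_zero (R := R) (M := S) (f := fun i => (a i : R)) (x := fun i => ψ (p i)) h0
  choose q hq using fun j => hψ (y j)
  have hfe' : f = ∑ i, algebraMap R P (a i) * (p i - ∑ j, c i j • q j) := by
    rw [hfe]
    simp only [mul_sub, Finset.sum_sub_distrib, Finset.mul_sum]
    rw [Finset.sum_comm (f := fun i j => algebraMap R P (a i) * c i j • q j)]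
    simp only [Algebra.smul_def, ← mul_assoc, ← Finset.sum_mul, ← map_mul, ← map_sum, hc, map_zero, zero_mul,
      Finset.sum_const_zero, sub_zero]
  rw [hfe']
  refine sum_mem fun i _ => ?_
  refine Submodule.smul_mem_smul (Ideal.mem_map_of_mem _ (a i).2) ?_
  rw [RingHom.mem_ker, map_sub, map_sum]
  simp [hy i, hq]

variable {k R : Type u} [Field k] [CommRing R] [IsNoetherianRing R]

theorem mem_map_of_coeff {σ : Type*} (I : Ideal R) {f : MvPowerSeries σ R}
    (hf : ∀ e, MvPowerSeries.coeff e f ∈ I) : f ∈ I.map (algebraMap R (MvPowerSeries σ R)) := by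
  obtain ⟨n, g, hg⟩ := Submodule.fg_iff_exists_fin_generating_family.1 (IsNoetherian.noetherian I)
  choose c hc using fun e => Submodule.mem_span_range_iff_exists_fun R |>.1 (hg.symm ▸ hf e)
  have : f = ∑ i, algebraMap R (MvPowerSeries σ R) (g i) * (show MvPowerSeries σ R from fun e => c e i) := by
    ext e
    rw [map_sum]
    refine (hc e).symm.trans (Finset.sum_congr rfl fun i _ => ?_)
    rw [MvPowerSeries.algebraMap_apply, MvPowerSeries.coeff_C_mul, Algebra.algebraMap_self, RingHom.id_apply,
      smul_eq_mul, mul_comm]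
    rfl
  rw [this]
  exact sum_mem fun i _ => Ideal.mul_mem_right _ _
    (Ideal.mem_map_of_mem _ (by rw [← hg]; exact Submodule.subset_span ⟨i, rfl⟩))

variable [IsLocalRing R] [IsAdicComplete (maximalIdeal R) R] [Algebra k R]
  {S : Type u} [CommRing S] [IsLocalRing S] [IsNoetherianRing S] [Algebra R S] [Module.Flat R S]

/-- A flat algebra whose closed fibre is `k[[x]]/(g₀)` is `R[[x]]/(g)`, for a lift `g` in the kernel. -/
theorem bijective_of_fibre {m : ℕ} (χ : R →+* k) (hχ : RingHom.ker χ = maximalIdeal R)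
    (hχs : Function.Surjective χ)
    {N₀ : Type u} [CommRing N₀] (π : S →+* N₀) (hker : RingHom.ker π = (maximalIdeal R).map (algebraMap R S))
    (ψ₀ : MvPowerSeries (Fin m) k →+* N₀) {g₀ : MvPowerSeries (Fin m) k}
    (hker₀ : RingHom.ker ψ₀ = Ideal.span {g₀})
    (ψ : MvPowerSeries (Fin m) R →ₐ[R] S) (hψ : Function.Surjective ψ)
    (hcomm : ∀ f, π (ψ f) = ψ₀ (MvPowerSeries.map χ f))
    {g : MvPowerSeries (Fin m) R} (hg : ψ g = 0) (hgg : MvPowerSeries.map χ g = g₀) :
    RingHom.ker ψ = Ideal.span {g} := by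
  classical
  set I := (maximalIdeal R).map (algebraMap R (MvPowerSeries (Fin m) R))
  refine le_antisymm ?_ ((Ideal.span_singleton_le_iff_mem _).2 (RingHom.mem_ker.2 hg))
  haveI : IsNoetherianRing (MvPowerSeries (Fin m) R) := MvPowerSeries.isNoetherianRing R
  refine Submodule.le_of_le_smul_of_le_jacobson_bot (I := I) (IsNoetherian.noetherian _)
    ((Ideal.map_le_iff_le_comap.2 fun r hr => ?_).trans (maximalIdeal_le_jacobson _)) fun f hf => ?_
  · rw [Ideal.mem_comap, ArtFunLib.mem_maximalIdeal_ps, MvPowerSeries.algebraMap_apply,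
      MvPowerSeries.constantCoeff_C]
    simpa using hr
  · have hf0 : ψ₀ (MvPowerSeries.map χ f) = 0 := by rw [← hcomm, RingHom.mem_ker.1 hf, map_zero]
    rw [← RingHom.mem_ker, hker₀, Ideal.mem_span_singleton] at hf0
    obtain ⟨w, hw⟩ := hf0
    let wt : MvPowerSeries (Fin m) R := fun e => (hχs (MvPowerSeries.coeff e w)).choose
    have hwt : MvPowerSeries.map χ wt = w := MvPowerSeries.ext fun e => by
      rw [MvPowerSeries.coeff_map]; exact (hχs (MvPowerSeries.coeff e w)).choose_spec
    have h1 : f - g * wt ∈ I := mem_map_of_coeff _ fun e => by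
      rw [← hχ, RingHom.mem_ker, ← MvPowerSeries.coeff_map, map_sub, map_mul, hgg, hwt, ← hw, sub_self, map_zero]
    have h2 : f - g * wt ∈ RingHom.ker ψ := by
      rw [RingHom.mem_ker, map_sub, map_mul, hg, zero_mul, RingHom.mem_ker.1 hf, sub_zero]
    have := ker_inf_smul_le ψ hψ (maximalIdeal R) h2 h1
    have hsplit : f = g * wt + (f - g * wt) := by ring
    rw [hsplit]
    exact Submodule.add_mem_sup (Ideal.mul_mem_right _ _ (Ideal.mem_span_singleton_self g)) this

end Groth.Agent.NodeInv70
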