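import Groth.Agent.NodeInv70.Fibre

/-!
# Deformations of the node with an involution
-/

set_option autoImplicit false
set_option linter.style.haveILetI false

universe u

noncomputable section

namespace Groth.Agent.NodeInv70

open IsLocalRing

variable (k : Type u) [Field k]

local notation "P₀" => MvPowerSeries (Fin 2) k
local notation "N₀" => P₀ ⧸ Ideal.span
  {(MvPowerSeries.X 1 ^ 2 - MvPowerSeries.X 0 ^ 2 : MvPowerSeries (Fin 2) k)}

/-- `y - x` and `y + x`. -/
def br (ε : k) : P₀ := MvPowerSeries.X 1 + MvPowerSeries.C ε * MvPowerSeries.X 0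

theorem br_mul : br k (-1) * br k 1 = (MvPowerSeries.X 1 ^ 2 - MvPowerSeries.X 0 ^ 2 : P₀) := by
  simp only [br, map_neg, map_one]; ring

theorem br_cc (ε : k) : MvPowerSeries.constantCoeff (br k ε) = 0 := by simp [br]

theorem br_coeff (ε : k) (i : Fin 2) :
    MvPowerSeries.coeff (Finsupp.single i 1) (br k ε) = if i = 1 then 1 else ε := by
  classical
  fin_cases i <;> simp [br, MvPowerSeries.coeff_X, Finsupp.single_left_inj]

theorem br_prime (ε : k) : Prime (br k ε) :=
  PlaneCurve70.prime_of_not_mem_two (i := 1) (br_cc k ε) (by simp [br_coeff])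

theorem br_not_dvd {ε ε' : k} (h : ε ≠ ε') : ¬ br k ε ∣ br k ε' := by
  rintro ⟨w, hw⟩
  have h1 := congrArg (MvPowerSeries.coeff (Finsupp.single (1 : Fin 2) 1)) hw
  have h0 := congrArg (MvPowerSeries.coeff (Finsupp.single (0 : Fin 2) 1)) hw
  rw [PlaneCurve70.coeff_single_mul, br_cc, br_coeff, br_coeff] at h1 h0
  simp at h1 h0
  exact h (by rw [h0, ← h1, mul_one])

/-- The branch ideal. -/
def brIdeal (ε : k) : Ideal N₀ := (Ideal.span {br k ε}).map (Ideal.Quotient.mk _)

variable {k}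
variable {R S : Type u} [CommRing R] [IsLocalRing R] [IsNoetherianRing R]
  [IsAdicComplete (maximalIdeal R) R] [CommRing S] [IsLocalRing S] [IsNoetherianRing S]
  [IsAdicComplete (maximalIdeal S) S]
  [Algebra k R] [Algebra R S] [Algebra k S] [IsScalarTower k R S] [IsLocalHom (algebraMap R S)]

/-- `𝔪_R S`. -/
abbrev mS (R S : Type u) [CommRing R] [IsLocalRing R] [CommRing S] [Algebra R S] : Ideal S :=
  (maximalIdeal R).map (algebraMap R S)

theorem comap_mem_minimalPrimes (π : S →ₐ[k] N₀) (hπs : Function.Surjective π)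
    (hπ : RingHom.ker π.toRingHom = (mS R S)) {ε : k} (hε : ε = 1 ∨ ε = -1) (h2 : (2 : k) ≠ 0) :
    (brIdeal k ε).comap π.toRingHom ∈ ((mS R S)).minimalPrimes := by
  have hdvd : br k ε ∣ (MvPowerSeries.X 1 ^ 2 - MvPowerSeries.X 0 ^ 2 : P₀) := by
    rw [← br_mul]; rcases hε with rfl | rfl
    · exact dvd_mul_left _ _
    · exact dvd_mul_right _ _
  have hcm : (brIdeal k ε).comap (Ideal.Quotient.mk _) = Ideal.span {br k ε} := by
    rw [brIdeal, Ideal.comap_map_of_surjective _ Ideal.Quotient.mk_surjective, ← RingHom.ker_eq_comap_bot,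
      Ideal.mk_ker, sup_eq_left, Ideal.span_singleton_le_iff_mem, Ideal.mem_span_singleton]
    exact hdvd
  haveI : (brIdeal k ε).IsPrime := by
    refine @Ideal.map_isPrime_of_surjective _ _ _ _ _ _ _ _ Ideal.Quotient.mk_surjective _
      ((Ideal.span_singleton_prime (br_prime k ε).ne_zero).2 (br_prime k ε)) ?_
    rw [Ideal.mk_ker, Ideal.span_singleton_le_iff_mem, Ideal.mem_span_singleton]; exact hdvd
  refine ⟨⟨Ideal.IsPrime.comap _, ?_⟩, fun q hq hle => ?_⟩
  · rw [← hπ]; exact Ideal.comap_mono bot_le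
  · obtain ⟨hqp, hMq⟩ := hq
    haveI := hqp
    have hqker : RingHom.ker π.toRingHom ≤ q := hπ.trans_le hMq
    haveI : (q.map π.toRingHom).IsPrime := Ideal.map_isPrime_of_surjective hπs hqker
    have hcq : (q.map π.toRingHom).comap π.toRingHom = q := by
      refine (Ideal.comap_map_of_surjective' π.toRingHom hπs q).trans ?_
      exact sup_eq_left.2 hqker
    rw [← hcq]
    refine Ideal.comap_mono ?_
    have hmem : br k (-1) * br k 1 ∈ (q.map π.toRingHom).comap (Ideal.Quotient.mk _) := by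
      rw [Ideal.mem_comap, br_mul, Ideal.Quotient.eq_zero_iff_mem.2 (Ideal.mem_span_singleton_self _)]
      exact zero_mem _
    have hsub : (q.map π.toRingHom).comap (Ideal.Quotient.mk _) ≤ Ideal.span {br k ε} := by
      rw [← hcm]
      refine Ideal.comap_mono ((Ideal.map_le_iff_le_comap).2 hle)
    have hne : (1 : k) ≠ -1 := fun h => h2 (by linear_combination h)
    have hkey : br k ε ∈ (q.map π.toRingHom).comap (Ideal.Quotient.mk _) := by
      rcases Ideal.IsPrime.mem_or_mem (Ideal.IsPrime.comap _) hmem with h | h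
      · rcases hε with rfl | rfl
        · exact absurd (Ideal.mem_span_singleton.1 (hsub h)) (br_not_dvd k hne)
        · exact h
      · rcases hε with rfl | rfl
        · exact h
        · exact absurd (Ideal.mem_span_singleton.1 (hsub h)) (br_not_dvd k hne.symm)
    exact Ideal.map_le_iff_le_comap.2 ((Ideal.span_singleton_le_iff_mem _).2 hkey)

theorem main (h2 : (2 : k) ≠ 0) [Module.Flat R S]
    (e : (S ⧸ (mS R S)) ≃ₐ[k] N₀) (σ : S ≃ₐ[R] S) (hσ : ∀ s, σ (σ s) = s)
    (hbr : ∀ P ∈ ((mS R S)).minimalPrimes, Ideal.map (σ : S →+* S) P = P) :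
    ∃ (t : R) (ξ₁ ξ₂ : k), ξ₁ ^ 2 = 1 ∧ ξ₂ ^ 2 = 1 ∧ (ξ₁ = -ξ₂ → t = 0) ∧
      ∃ f : S ≃ₐ[R] (MvPowerSeries (Fin 2) R ⧸
          Ideal.span {(MvPowerSeries.X 0 * MvPowerSeries.X 1 - MvPowerSeries.C t : MvPowerSeries (Fin 2) R)}),
        f (σ (f.symm (Ideal.Quotient.mk _ (MvPowerSeries.X 0)))) =
          algebraMap k R ξ₂ • Ideal.Quotient.mk _ (MvPowerSeries.X 0) ∧
        f (σ (f.symm (Ideal.Quotient.mk _ (MvPowerSeries.X 1)))) =
          algebraMap k R ξ₁ • Ideal.Quotient.mk _ (MvPowerSeries.X 1) := by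
  classical
  haveI := PlaneCurve70.isDomain (k := k) (n := 2)
  -- the closed fibre
  let π : S →ₐ[k] N₀ := e.toAlgHom.comp (Ideal.Quotient.mkₐ k (mS R S))
  have hπs : Function.Surjective π := e.surjective.comp Ideal.Quotient.mk_surjective
  have hπ : RingHom.ker π.toRingHom = (mS R S) := by
    ext s
    rw [RingHom.mem_ker]
    show e (Ideal.Quotient.mk _ s) = 0 ↔ _
    rw [EmbeddingLike.map_eq_zero_iff, Ideal.Quotient.eq_zero_iff_mem]
  let ε₀ : N₀ →ₐ[k] k := Ideal.Quotient.liftₐ _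
    (AlgHom.mk' (MvPowerSeries.constantCoeff (σ := Fin 2) (R := k)) fun c x => by
      simp [MvPowerSeries.smul_eq_C_mul])
    fun a ha => by
      obtain ⟨w, rfl⟩ := Ideal.mem_span_singleton.1 ha
      simp
  have hε₀ : ∀ a, ε₀ (Ideal.Quotient.mk _ a) = MvPowerSeries.constantCoeff a := fun a => rfl
  let χS : S →ₐ[k] k := ε₀.comp π
  let χ : R →ₐ[k] k := χS.comp (IsScalarTower.toAlgHom k R S)
  have hχs : Function.Surjective χ := fun c => ⟨algebraMap k R c, χ.commutes c⟩
  have hχ : RingHom.ker χ.toRingHom = maximalIdeal R :=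
    eq_maximalIdeal (RingHom.ker_isMaximal_of_surjective χ.toRingHom hχs)
  have hχS : RingHom.ker χS.toRingHom = maximalIdeal S :=
    eq_maximalIdeal (RingHom.ker_isMaximal_of_surjective χS.toRingHom fun c => ⟨algebraMap k S c, χS.commutes c⟩)
  have hMmax : (mS R S) ≤ maximalIdeal S := by
    rw [← hπ, ← hχS]
    intro s hs
    rw [RingHom.mem_ker] at hs ⊢
    show ε₀ (π s) = 0
    exact (congrArg ε₀ hs).trans (map_zero _)
  have hπR : ∀ r, π (algebraMap R S r) = algebraMap k N₀ (χ r) := fun r => by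
    have h : algebraMap R S (r - algebraMap k R (χ r)) ∈ (mS R S) :=
      Ideal.mem_map_of_mem _ (by rw [← hχ, RingHom.mem_ker]; simp)
    rw [← hπ, RingHom.mem_ker, map_sub] at h
    rw [← sub_eq_zero, ← π.commutes, IsScalarTower.algebraMap_apply k R S]
    simpa using h
  have hσk : ∀ c : k, σ (algebraMap k S c) = algebraMap k S c := fun c => by
    rw [IsScalarTower.algebraMap_apply k R S, AlgEquiv.commutes]
  have hσpow : ∀ (n : ℕ) (s : S), s ∈ ((mS R S)) ^ n → σ s ∈ ((mS R S)) ^ n := fun n s hs => by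
    have : (((mS R S)) ^ n).map σ.toAlgHom.toRingHom = ((mS R S)) ^ n := by
      rw [Ideal.map_pow, Ideal.map_map]
      congr 2
      exact RingHom.ext fun r => σ.commutes r
    rw [← this]
    exact Ideal.mem_map_of_mem σ.toAlgHom.toRingHom hs
  have hσπ : ∀ s, π s = 0 → π (σ s) = 0 := fun s hs => by
    have : s ∈ ((mS R S)) ^ 1 := by rw [pow_one, ← hπ]; exact hs
    have := hσpow 1 s this
    rwa [pow_one, ← hπ] at this
  have hσχ : ∀ s, χS (σ s) = χS s := fun s => by
    have h1 : s - algebraMap k S (χS s) ∈ maximalIdeal S := by rw [← hχS, RingHom.mem_ker]; simp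
    have h2' : σ (s - algebraMap k S (χS s)) ∈ maximalIdeal S := fun hu => h1 ((isUnit_map_iff σ _).1 hu)
    rw [← hχS, RingHom.mem_ker, map_sub, hσk] at h2'
    simpa [sub_eq_zero] using h2'
  have h2c : (algebraMap k S (2 : k)⁻¹) * 2 = 1 := by
    rw [show (2 : S) = algebraMap k S 2 from (map_ofNat _ 2).symm, ← map_mul, inv_mul_cancel₀ h2, map_one]
  -- eigen coordinates on a branch
  have hbranch : ∀ ε : k, (ε = 1 ∨ ε = -1) → ∃ (U : S) (ξ : k) (w : P₀), ξ ^ 2 = 1 ∧
      σ U = algebraMap k S ξ * U ∧ MvPowerSeries.constantCoeff w = 1 ∧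
      π U = Ideal.Quotient.mk _ (br k ε * w) := by
    intro ε hε
    obtain ⟨U₀, hU₀⟩ := hπs (Ideal.Quotient.mk _ (br k ε))
    have hmem : σ U₀ ∈ (brIdeal k ε).comap π.toRingHom := by
      rw [← hbr _ (comap_mem_minimalPrimes π hπs hπ hε h2)]
      refine Ideal.mem_map_of_mem _ ?_
      rw [Ideal.mem_comap]
      exact hU₀ ▸ Ideal.mem_map_of_mem _ (Ideal.mem_span_singleton_self _)
    rw [Ideal.mem_comap, brIdeal, Ideal.map_span, Set.image_singleton, Ideal.mem_span_singleton] at hmem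
    obtain ⟨a, ha⟩ := hmem
    obtain ⟨A, rfl⟩ := hπs a
    change π (σ U₀) = Ideal.Quotient.mk _ (br k ε) * π A at ha
    let ξ := χS A
    have hξ : ξ ^ 2 = 1 := by
      have h1 : π (σ U₀ - U₀ * A) = 0 := by rw [map_sub, map_mul, hU₀, ha, sub_self]
      have h3 := hσπ _ h1
      rw [map_sub, map_mul, hσ] at h3
      have h4 : π (U₀ * (1 - A * σ A)) = 0 := by
        rw [show U₀ * (1 - A * σ A) = (U₀ - σ U₀ * σ A) + (σ U₀ - U₀ * A) * σ A by ring, map_add, map_mul,
          h1, zero_mul, add_zero]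
        exact h3
      by_contra hne
      have hu : IsUnit (1 - A * σ A) := by
        by_contra hnu
        have : 1 - A * σ A ∈ maximalIdeal S := hnu
        rw [← hχS, RingHom.mem_ker] at this
        simp [hσχ, ← sq, sub_eq_zero] at this
        exact hne this.symm
      have : π U₀ = 0 := by
        obtain ⟨b, hb⟩ := hu.exists_right_inv
        have := congrArg (· * π b) h4
        simp only [zero_mul, ← map_mul, mul_assoc, hb, mul_one] at this
        exact this
      rw [hU₀, Ideal.Quotient.eq_zero_iff_mem, Ideal.mem_span_singleton, ← br_mul] at this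
      rcases hε with rfl | rfl
      · exact br_not_dvd k (fun h => h2 (by linear_combination -h)) ((dvd_mul_right _ _).trans this)
      · exact br_not_dvd k (fun h => h2 (by linear_combination h)) ((dvd_mul_left _ _).trans this)
    obtain ⟨a₀, ha₀⟩ := Ideal.Quotient.mk_surjective (π A)
    refine ⟨algebraMap k S (2 : k)⁻¹ * (U₀ + algebraMap k S ξ * σ U₀), ξ,
      MvPowerSeries.C (2 : k)⁻¹ * (1 + MvPowerSeries.C ξ * a₀), hξ, ?_, ?_, ?_⟩
    · rw [map_mul, map_add, map_mul, hσk, hσk, hσ]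
      have : algebraMap k S ξ * algebraMap k S ξ = 1 := by rw [← map_mul, ← sq, hξ, map_one]
      linear_combination (-(algebraMap k S (2 : k)⁻¹ * σ U₀)) * this
    · have : MvPowerSeries.constantCoeff a₀ = ξ := by rw [← hε₀, ha₀]; rfl
      rw [map_mul, map_add, map_mul, MvPowerSeries.constantCoeff_C, MvPowerSeries.constantCoeff_C, map_one,
        this, ← sq, hξ]
      field_simp; norm_num
    · rw [map_mul, map_add, map_mul, AlgHom.commutes, AlgHom.commutes, hU₀, ha, ← ha₀]
      simp only [map_mul, map_add, map_one]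
      simp only [show ∀ c : k, algebraMap k N₀ c = Ideal.Quotient.mk _ (MvPowerSeries.C c) from fun c => rfl]
      ring
  obtain ⟨U₁, ξ₂, w₂, hξ₂, hU₁, hw₂, hπU⟩ := hbranch (-1) (Or.inr rfl)
  obtain ⟨V₁, ξ₁, w₁, hξ₁, hV₁, hw₁, hπV⟩ := hbranch 1 (Or.inl rfl)
  -- the map on closed fibres
  let y : Fin 2 → P₀ := ![br k (-1) * w₂, br k 1 * w₁]
  let θ := PlaneCurve70.autoOf y
    (fun i => by fin_cases i <;> simp [y, br_cc])
    (by
      rw [show (CAlg48.InverseFunction.jacobian y).det = _ from Matrix.det_fin_two _]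
      simp [CAlg48.InverseFunction.jacobian, y, PlaneCurve70.coeff_single_mul, br_cc, br_coeff, hw₁, hw₂]
      intro h
      exact h2 (by linear_combination -h))
  let ψ₀ : P₀ →ₐ[k] N₀ := (Ideal.Quotient.mkₐ k _).comp θ.toAlgHom
  have hψ₀s : Function.Surjective ψ₀ := Ideal.Quotient.mk_surjective.comp θ.surjective
  have hθ : Associated (θ (MvPowerSeries.X 0 * MvPowerSeries.X 1))
      (MvPowerSeries.X 1 ^ 2 - MvPowerSeries.X 0 ^ 2 : P₀) := by
    rw [map_mul, PlaneCurve70.autoOf_X, PlaneCurve70.autoOf_X, ← br_mul]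
    simp only [y, Matrix.cons_val_zero, Matrix.cons_val_one]
    rw [mul_mul_mul_comm]
    exact associated_mul_unit_left _ _ (MvPowerSeries.isUnit_iff_constantCoeff.2 (by simp [hw₁, hw₂]))
  have hker₀ : RingHom.ker ψ₀.toRingHom = Ideal.span {MvPowerSeries.X 0 * MvPowerSeries.X 1} := by
    ext f
    rw [RingHom.mem_ker, Ideal.mem_span_singleton]
    show Ideal.Quotient.mk _ (θ f) = 0 ↔ _
    rw [Ideal.Quotient.eq_zero_iff_mem, Ideal.mem_span_singleton, ← hθ.dvd_iff_dvd_left, map_dvd_iff]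
  -- the maximal ideal
  have hdec : ∀ s : S, ∃ (c : k) (p q : S), s - (algebraMap k S c + U₁ * p + V₁ * q) ∈ (mS R S) := by
    intro s
    obtain ⟨f, hf⟩ := hψ₀s (π s)
    obtain ⟨p, hp⟩ := hπs (ψ₀ (QuadMorse.div 0 f))
    obtain ⟨q, hq⟩ := hπs (ψ₀ (QuadMorse.div 1 f))
    refine ⟨MvPowerSeries.constantCoeff f, p, q, ?_⟩
    rw [← hπ, RingHom.mem_ker]
    show π (s - _) = 0
    rw [map_sub, map_add, map_add, map_mul, map_mul, AlgHom.commutes, hp, hq, hπU, hπV, sub_eq_zero, ← hf]
    conv_lhs => rw [QuadMorse.decomp f, Fin.sum_univ_two]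
    rw [map_add, map_add, map_mul, map_mul, ← add_assoc, QuadMorse.map_C]
    simp [ψ₀, θ, y]
  let ξ := ξ₁ * ξ₂
  have hξξ : ξ = 1 ∨ ξ = -1 := sq_eq_one_iff.1 (by rw [mul_pow, hξ₁, hξ₂, one_mul])
  -- symmetrised decomposition
  have hdec' : ∀ (n : ℕ) (x : S), x ∈ ((mS R S)) ^ n → ∃ (a : R) (p q : S), a ∈ maximalIdeal R ^ n ∧ p ∈ ((mS R S)) ^ n ∧
      q ∈ ((mS R S)) ^ n ∧ x - (algebraMap R S a + U₁ * p + V₁ * q) ∈ ((mS R S)) ^ (n + 1) := by
    intro n x hx
    rw [← Ideal.map_pow] at hx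
    obtain ⟨m, c, g, rfl⟩ := Submodule.mem_span_set'.1 hx
    choose a ha hag using fun i => (g i).2
    choose c₀ p q hpq using fun i => hdec (c i)
    have hmem : ∀ i, algebraMap R S (a i) ∈ ((mS R S)) ^ n := fun i => by
      rw [← Ideal.map_pow]; exact Ideal.mem_map_of_mem _ (ha i)
    refine ⟨∑ i, algebraMap k R (c₀ i) * a i, ∑ i, p i * algebraMap R S (a i), ∑ i, q i * algebraMap R S (a i),
      sum_mem fun i _ => Ideal.mul_mem_left _ _ (ha i), sum_mem fun i _ => Ideal.mul_mem_left _ _ (hmem i),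
      sum_mem fun i _ => Ideal.mul_mem_left _ _ (hmem i), ?_⟩
    rw [map_sum, Finset.mul_sum, Finset.mul_sum, ← Finset.sum_add_distrib, ← Finset.sum_add_distrib,
      ← Finset.sum_sub_distrib]
    refine sum_mem fun i _ => ?_
    rw [smul_eq_mul, ← hag i, map_mul, ← IsScalarTower.algebraMap_apply]
    have := Ideal.mul_mem_mul (hmem i) (hpq i)
    rw [← pow_succ] at this
    convert this using 1
    ring
  -- successive approximation
  let Inv : ℕ → R × S × S → Prop := fun n z =>
    (ξ = -1 → z.1 = 0) ∧ σ z.2.1 = algebraMap k S ξ₂ * z.2.1 ∧ σ z.2.2 = algebraMap k S ξ₁ * z.2.2 ∧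
      z.2.1 * z.2.2 - algebraMap R S z.1 ∈ ((mS R S)) ^ (n + 1) ∧ z.2.1 - U₁ ∈ (mS R S) ∧ z.2.2 - V₁ ∈ (mS R S)
  have hstep : ∀ n z, Inv n z → ∃ z', Inv (n + 1) z' ∧ z'.1 - z.1 ∈ maximalIdeal R ^ (n + 1) ∧
      z'.2.1 - z.2.1 ∈ ((mS R S)) ^ (n + 1) ∧ z'.2.2 - z.2.2 ∈ ((mS R S)) ^ (n + 1) := by
    rintro n ⟨t, U, V⟩ ⟨ht, hU, hV, hUV, hUU, hVV⟩
    dsimp only at *
    obtain ⟨a, p, q, ha, hp, hq, hx⟩ := hdec' (n + 1) _ hUV
    set hf := algebraMap k S (2 : k)⁻¹
    let p' := hf * (p + algebraMap k S ξ₁ * σ p)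
    let q' := hf * (q + algebraMap k S ξ₂ * σ q)
    let a' := algebraMap k R ((2 : k)⁻¹ * (1 + ξ)) * a
    have hc1 : algebraMap k S ξ₁ * algebraMap k S ξ₁ = 1 := by rw [← map_mul, ← sq, hξ₁, map_one]
    have hc2 : algebraMap k S ξ₂ * algebraMap k S ξ₂ = 1 := by rw [← map_mul, ← sq, hξ₂, map_one]
    have hp' : p' ∈ ((mS R S)) ^ (n + 1) := Ideal.mul_mem_left _ _ (add_mem hp (Ideal.mul_mem_left _ _ (hσpow _ _ hp)))
    have hq' : q' ∈ ((mS R S)) ^ (n + 1) := Ideal.mul_mem_left _ _ (add_mem hq (Ideal.mul_mem_left _ _ (hσpow _ _ hq)))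
    have hσx : σ (U * V - algebraMap R S t) = algebraMap k S ξ * (U * V - algebraMap R S t) := by
      rw [map_sub, map_mul, hU, hV, AlgEquiv.commutes]
      rcases hξξ with h | h
      · rw [h, map_one, one_mul]
        have : algebraMap k S ξ₁ * algebraMap k S ξ₂ = 1 := by rw [← map_mul]; exact (congrArg _ h).trans (map_one _)
        linear_combination (U * V) * this
      · rw [ht h, map_zero, sub_zero, sub_zero]
        simp only [ξ, map_mul]; ring
    refine ⟨(t + a', U - q', V - p'), ⟨fun h => ?_, ?_, ?_, ?_, ?_, ?_⟩, by simpa using Ideal.mul_mem_left _ _ ha,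
      by simpa using hq', by simpa using hp'⟩
    · simp [a', ht h, h]
    · dsimp only
      rw [map_sub, hU, mul_sub]
      congr 1
      rw [map_mul, map_add, map_mul, hσk, hσk, hσ]
      linear_combination (-(hf * σ q)) * hc2
    · dsimp only
      rw [map_sub, hV, mul_sub]
      congr 1
      rw [map_mul, map_add, map_mul, hσk, hσk, hσ]
      linear_combination (-(hf * σ p)) * hc1
    · dsimp only
      set ρ := U * V - algebraMap R S t - (algebraMap R S a + U₁ * p + V₁ * q)
      have hσρ := hσpow _ _ hx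
      have hU₁U : (U - U₁) * p' ∈ ((mS R S)) ^ (n + 1 + 1) := by
        rw [pow_succ']; exact Ideal.mul_mem_mul hUU hp'
      have hV₁V : (V - V₁) * q' ∈ ((mS R S)) ^ (n + 1 + 1) := by
        rw [pow_succ']; exact Ideal.mul_mem_mul hVV hq'
      have hpq' : q' * p' ∈ ((mS R S)) ^ (n + 1 + 1) :=
        Ideal.pow_le_pow_right (by omega) (by rw [pow_add]; exact Ideal.mul_mem_mul hq' hp' : q' * p' ∈ ((mS R S)) ^ ((n + 1) + (n + 1)))
      have key : (U - q') * (V - p') - algebraMap R S (t + a') =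
          hf * (ρ + algebraMap k S ξ * σ ρ) - (U - U₁) * p' - (V - V₁) * q' + q' * p' := by
        have hσρe : σ ρ = algebraMap k S ξ * (U * V - algebraMap R S t) -
            (algebraMap R S a + algebraMap k S ξ₂ * U₁ * σ p + algebraMap k S ξ₁ * V₁ * σ q) := by
          rw [show σ ρ = σ (U * V - algebraMap R S t) - σ (algebraMap R S a + U₁ * p + V₁ * q) from map_sub σ _ _,
            hσx, map_add, map_add, map_mul σ U₁ p, map_mul σ V₁ q, AlgEquiv.commutes, hU₁, hV₁]
        have hξS : algebraMap k S ξ * algebraMap k S ξ = 1 := by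
          rw [← map_mul, ← sq, mul_pow, hξ₁, hξ₂, one_mul, map_one]
        have ha' : algebraMap R S a' = hf * (1 + algebraMap k S ξ) * algebraMap R S a := by
          simp only [a', map_mul, ← IsScalarTower.algebraMap_apply, map_add, map_one, hf]
        rw [hσρe, map_add, ha']
        simp only [ρ, p', q', ξ, map_mul] at hξS ⊢
        linear_combination (-(U * V - algebraMap R S t)) * h2c +
          (-(hf * (U * V - algebraMap R S t))) * hξS + (hf * algebraMap k S ξ₁ * U₁ * σ p) * hc2 +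
          (hf * algebraMap k S ξ₂ * V₁ * σ q) * hc1
      rw [key]
      exact add_mem (sub_mem (sub_mem (Ideal.mul_mem_left _ _ (add_mem hx (Ideal.mul_mem_left _ _ hσρ))) hU₁U) hV₁V) hpq'
    · dsimp only
      rw [sub_right_comm]
      exact sub_mem hUU (Ideal.pow_le_self (by omega) hq')
    · dsimp only
      rw [sub_right_comm]
      exact sub_mem hVV (Ideal.pow_le_self (by omega) hp')
  choose next hnext using fun n (z : {z // Inv n z}) => hstep n z.1 z.2
  have hstart : Inv 0 (0, U₁, V₁) := by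
    refine ⟨fun _ => rfl, hU₁, hV₁, ?_, by simp, by simp⟩
    dsimp only
    rw [zero_add, pow_one, map_zero, sub_zero, ← hπ, RingHom.mem_ker]
    show π (U₁ * V₁) = 0
    rw [map_mul, hπU, hπV, ← map_mul, mul_mul_mul_comm, br_mul, Ideal.Quotient.eq_zero_iff_mem]
    exact Ideal.mul_mem_right _ _ (Ideal.mem_span_singleton_self _)
  let seq : ∀ n, {z // Inv n z} := fun n => Nat.rec ⟨_, hstart⟩ (fun n z => ⟨next n z, (hnext n z).1⟩) n
  have hsucc : ∀ n, (seq (n + 1)).1 = next n (seq n) := fun n => rfl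
  have hlim : ∀ {A : Type u} [CommRing A] (I : Ideal A) [IsAdicComplete I A] (f : ℕ → A),
      (∀ n, f (n + 1) - f n ∈ I ^ n) → ∃ L, ∀ n, f n - L ∈ I ^ n := by
    intro A _ I _ f hf
    obtain ⟨L, hL⟩ := IsPrecomplete.prec (I := I) (M := A) inferInstance (f := f) fun {a b} hab => by
      rw [SModEq.sub_mem, Ideal.smul_eq_mul, Ideal.mul_top]
      induction b, hab using Nat.le_induction with
      | base => simp
      | succ b hab ih =>
        rw [show f a - f (b + 1) = (f a - f b) - (f (b + 1) - f b) by ring]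
        exact sub_mem ih (Ideal.pow_le_pow_right hab (hf b))
    exact ⟨L, fun n => by have := hL n; rwa [SModEq.sub_mem, Ideal.smul_eq_mul, Ideal.mul_top] at this⟩
  have hMm : ∀ n, ((mS R S)) ^ (n + 1) ≤ maximalIdeal S ^ n := fun n =>
    (Ideal.pow_le_pow_right (Nat.le_succ n)).trans (Ideal.pow_right_mono hMmax n)
  have hsep : ∀ {x : S}, (∀ n, x ∈ maximalIdeal S ^ n) → x = 0 := fun {x} hx =>
    IsHausdorff.haus (I := maximalIdeal S) inferInstance x fun n => by
      rw [SModEq.sub_mem, sub_zero, Ideal.smul_eq_mul, Ideal.mul_top]; exact hx n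
  obtain ⟨t, ht⟩ := hlim (maximalIdeal R) (fun n => (seq n).1.1) fun n => by
    rw [hsucc]; exact Ideal.pow_le_pow_right (Nat.le_succ n) (hnext n (seq n)).2.1
  obtain ⟨U, hU⟩ := hlim (maximalIdeal S) (fun n => (seq n).1.2.1) fun n => by
    rw [hsucc]; exact hMm n (hnext n (seq n)).2.2.1
  obtain ⟨V, hV⟩ := hlim (maximalIdeal S) (fun n => (seq n).1.2.2) fun n => by
    rw [hsucc]; exact hMm n (hnext n (seq n)).2.2.2
  have hσmax : ∀ (n : ℕ) (s : S), s ∈ maximalIdeal S ^ n → σ s ∈ maximalIdeal S ^ n := fun n s hs => by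
    have : (maximalIdeal S).map σ.toAlgHom.toRingHom ≤ maximalIdeal S :=
      Ideal.map_le_iff_le_comap.2 fun x hx hu => hx ((isUnit_map_iff σ _).1 hu)
    have h := Ideal.mem_map_of_mem σ.toAlgHom.toRingHom hs
    rw [Ideal.map_pow] at h
    exact Ideal.pow_right_mono this n h
  have hσU : σ U = algebraMap k S ξ₂ * U := sub_eq_zero.1 (hsep fun n => by
    have e := (seq n).2.2.1
    rw [show σ U - algebraMap k S ξ₂ * U =
      -σ ((seq n).1.2.1 - U) + algebraMap k S ξ₂ * ((seq n).1.2.1 - U) by rw [map_sub, e]; ring]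
    exact add_mem (neg_mem (hσmax n _ (hU n))) (Ideal.mul_mem_left _ _ (hU n)))
  have hσV : σ V = algebraMap k S ξ₁ * V := sub_eq_zero.1 (hsep fun n => by
    have e := (seq n).2.2.2.1
    rw [show σ V - algebraMap k S ξ₁ * V =
      -σ ((seq n).1.2.2 - V) + algebraMap k S ξ₁ * ((seq n).1.2.2 - V) by rw [map_sub, e]; ring]
    exact add_mem (neg_mem (hσmax n _ (hV n))) (Ideal.mul_mem_left _ _ (hV n)))
  have hUV : U * V = algebraMap R S t := sub_eq_zero.1 (hsep fun n => by
    have e := (seq n).2.2.2.2.1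
    have htS : algebraMap R S ((seq n).1.1 - t) ∈ maximalIdeal S ^ n := by
      have h := Ideal.mem_map_of_mem (algebraMap R S) (ht n)
      rw [Ideal.map_pow] at h
      exact Ideal.pow_right_mono hMmax n h
    rw [show U * V - algebraMap R S t = ((seq n).1.2.1 * (seq n).1.2.2 - algebraMap R S (seq n).1.1) -
      ((seq n).1.2.1 - U) * (seq n).1.2.2 - U * ((seq n).1.2.2 - V) + algebraMap R S ((seq n).1.1 - t) by
        rw [map_sub]; ring]
    exact add_mem (sub_mem (sub_mem (hMm n e) (Ideal.mul_mem_right _ _ (hU n))) (Ideal.mul_mem_left _ _ (hV n))) htS)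
  have hπeq : ∀ (X X₀ : S) (f : ℕ → S), (∀ n, f n - X₀ ∈ (mS R S)) → (∀ n, f n - X ∈ maximalIdeal S ^ n) →
      π X = π X₀ := by
    intro X X₀ f hf hfX
    haveI : Nontrivial (S ⧸ mS R S) := Ideal.Quotient.nontrivial_iff.2
      (ne_top_of_le_ne_top (maximalIdeal.isMaximal S).ne_top hMmax)
    haveI : Nontrivial N₀ := e.toEquiv.symm.nontrivial
    haveI : IsLocalRing N₀ := IsLocalRing.of_surjective' _ Ideal.Quotient.mk_surjective
    rw [← sub_eq_zero]
    have := Ideal.iInf_pow_eq_bot_of_isLocalRing (maximalIdeal N₀) (maximalIdeal.isMaximal _).ne_top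
    refine (Submodule.mem_bot N₀).1 (this ▸ (Submodule.mem_iInf _).2 fun n => ?_)
    have h0 : π (f n - X₀) = 0 := by
      have := hf n; rwa [← hπ, RingHom.mem_ker] at this
    rw [map_sub, sub_eq_zero] at h0
    rw [← h0, ← map_sub, ← neg_sub (f n) X, map_neg]
    refine neg_mem ?_
    have h := Ideal.mem_map_of_mem π.toRingHom (hfX n)
    rw [Ideal.map_pow] at h
    refine Ideal.pow_right_mono (Ideal.map_le_iff_le_comap.2 fun s hs hu => ?_) n h
    rw [← hχS, RingHom.mem_ker] at hs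
    exact not_isUnit_zero (hs ▸ hu.map ε₀)
  have hπU' : π U = ψ₀ (MvPowerSeries.X 0) := by
    rw [hπeq U U₁ _ (fun n => (seq n).2.2.2.2.2.1) hU, hπU]; simp [ψ₀, θ, y]
  have hπV' : π V = ψ₀ (MvPowerSeries.X 1) := by
    rw [hπeq V V₁ _ (fun n => (seq n).2.2.2.2.2.2) hV, hπV]; simp [ψ₀, θ, y]
  have hmU : ∀ i, (![U, V] : Fin 2 → S) i ∈ maximalIdeal S := by
    intro i
    rw [← hχS, RingHom.mem_ker]
    fin_cases i
    · show ε₀ (π U) = 0
      rw [hπU']
      show ε₀ (Ideal.Quotient.mk _ (θ (MvPowerSeries.X 0))) = 0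
      rw [hε₀]
      exact (PlaneCurve70.algHom_constantCoeff θ.toAlgHom (fun i => PlaneCurve70.equiv_constantCoeff θ i) _).trans
        (MvPowerSeries.constantCoeff_X _)
    · show ε₀ (π V) = 0
      rw [hπV']
      show ε₀ (Ideal.Quotient.mk _ (θ (MvPowerSeries.X 1))) = 0
      rw [hε₀]
      exact (PlaneCurve70.algHom_constantCoeff θ.toAlgHom (fun i => PlaneCurve70.equiv_constantCoeff θ i) _).trans
        (MvPowerSeries.constantCoeff_X _)
  obtain ⟨ψ, hψ⟩ := CAlg48.PSEval.exists_algHom (k := R) (maximalIdeal S) ![U, V] hmU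
  have hψ0 : ψ (MvPowerSeries.X 0) = U := by simpa using hψ 0
  have hψ1 : ψ (MvPowerSeries.X 1) = V := by simpa using hψ 1
  haveI := ArtFunLib.isAdicComplete_ps (σ := Fin 2) (C := R)
  have hψs : Function.Surjective ψ := by
    have himg : (maximalIdeal (MvPowerSeries (Fin 2) R)).map ψ.toRingHom = (mS R S) ⊔ Ideal.span {U, V} := by
      rw [ArtFunLib.maximalIdeal_ps_eq, Ideal.map_sup, Ideal.map_map, Ideal.map_span]
      congr 1
      · congr 1
        exact RingHom.ext fun r => ψ.commutes r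
      · congr 1
        rw [← Set.range_comp]
        ext x
        simp [Fin.exists_fin_two, hψ0, hψ1, eq_comm]
    have hle : (mS R S) ⊔ Ideal.span {U, V} ≤ maximalIdeal S :=
      sup_le hMmax (Ideal.span_le.2 (Set.insert_subset_iff.2 ⟨hmU 0, Set.singleton_subset_iff.2 (hmU 1)⟩))
    refine PSLoc.surjective_of_cotangent (maximalIdeal (MvPowerSeries (Fin 2) R)) ψ.toRingHom (himg.trans_le hle)
      (le_sup_of_le_left ?_) fun r => ?_
    · rw [himg]
      intro s hs
      obtain ⟨c, p, q, h⟩ := hdec s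
      have hUU : U - U₁ ∈ (mS R S) := by
        rw [← hπ, RingHom.mem_ker]
        exact (map_sub π U U₁).trans (by rw [hπeq U U₁ _ (fun n => (seq n).2.2.2.2.2.1) hU, sub_self])
      have hVV : V - V₁ ∈ (mS R S) := by
        rw [← hπ, RingHom.mem_ker]
        exact (map_sub π V V₁).trans (by rw [hπeq V V₁ _ (fun n => (seq n).2.2.2.2.2.2) hV, sub_self])
      have hc : c = 0 := by
        have hm : algebraMap k S c ∈ maximalIdeal S := by
          rw [show algebraMap k S c = s - (s - (algebraMap k S c + U₁ * p + V₁ * q)) - (U - (U - U₁)) * p -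
            (V - (V - V₁)) * q by ring]
          exact sub_mem (sub_mem (sub_mem hs (hMmax h)) (Ideal.mul_mem_right _ _ (sub_mem (hmU 0) (hMmax hUU))))
            (Ideal.mul_mem_right _ _ (sub_mem (hmU 1) (hMmax hVV)))
        rw [← hχS, RingHom.mem_ker] at hm
        simpa using hm
      rw [hc, map_zero, zero_add] at h
      rw [show s = (s - (U₁ * p + V₁ * q)) - ((U - U₁) * p + (V - V₁) * q) + (U * p + V * q) by ring]
      refine add_mem (Ideal.mem_sup_left (sub_mem h (add_mem (Ideal.mul_mem_right _ _ hUU) (Ideal.mul_mem_right _ _ hVV))))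
        (Ideal.mem_sup_right (add_mem (Ideal.mul_mem_right _ _ (Ideal.subset_span ?_))
          (Ideal.mul_mem_right _ _ (Ideal.subset_span ?_)))) <;> simp
    · obtain ⟨b, rfl⟩ := residue_surjective r
      refine ⟨algebraMap R _ (algebraMap k R (χS b)), (Ideal.Quotient.eq.mpr ?_).symm⟩
      show b - ψ (algebraMap R _ (algebraMap k R (χS b))) ∈ maximalIdeal S
      rw [AlgHom.commutes, ← IsScalarTower.algebraMap_apply, ← hχS, RingHom.mem_ker]
      simp
  have hcomm : ∀ f, π (ψ f) = ψ₀ (MvPowerSeries.map χ.toRingHom f) := by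
    haveI : Nontrivial (S ⧸ mS R S) := Ideal.Quotient.nontrivial_iff.2
      (ne_top_of_le_ne_top (maximalIdeal.isMaximal S).ne_top hMmax)
    haveI : Nontrivial N₀ := e.toEquiv.symm.nontrivial
    haveI : IsLocalRing N₀ := IsLocalRing.of_surjective' _ Ideal.Quotient.mk_surjective
    have key : ∀ (n : ℕ) (f : MvPowerSeries (Fin 2) R),
        π (ψ f) - ψ₀ (MvPowerSeries.map χ.toRingHom f) ∈ maximalIdeal N₀ ^ n := by
      intro n
      induction n with
      | zero => intro f; simp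
      | succ n ih =>
        intro f
        rw [QuadMorse.decomp f, Fin.sum_univ_two]
        simp only [map_add, map_mul, QuadMorse.map_C, MvPowerSeries.map_C, MvPowerSeries.map_X, hψ0, hψ1, hπR,
          hπU', hπV', show ∀ r, χ.toRingHom r = χ r from fun _ => rfl]
        rw [show ∀ a b c b' c' : N₀, a + (ψ₀ (MvPowerSeries.X 0) * b + ψ₀ (MvPowerSeries.X 1) * c) -
            (a + (ψ₀ (MvPowerSeries.X 0) * b' + ψ₀ (MvPowerSeries.X 1) * c')) =
            ψ₀ (MvPowerSeries.X 0) * (b - b') + ψ₀ (MvPowerSeries.X 1) * (c - c') from fun _ _ _ _ _ => by ring,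
          pow_succ' (maximalIdeal N₀) n]
        have hnu : ∀ i, ψ₀ (MvPowerSeries.X i) ∈ maximalIdeal N₀ := fun i hu => not_isUnit_zero (by
          have h := hu.map ε₀
          rwa [show ε₀ (ψ₀ (MvPowerSeries.X i)) = 0 from
            (PlaneCurve70.algHom_constantCoeff θ.toAlgHom (fun j => PlaneCurve70.equiv_constantCoeff θ j) _).trans
              (MvPowerSeries.constantCoeff_X i)] at h)
        exact add_mem (Ideal.mul_mem_mul (hnu 0) (ih _)) (Ideal.mul_mem_mul (hnu 1) (ih _))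
    intro f
    rw [← sub_eq_zero]
    have := Ideal.iInf_pow_eq_bot_of_isLocalRing (maximalIdeal N₀) (maximalIdeal.isMaximal _).ne_top
    exact (Submodule.mem_bot N₀).1 (this ▸ (Submodule.mem_iInf _).2 fun n => key n f)
  have hg : ψ (MvPowerSeries.X 0 * MvPowerSeries.X 1 - MvPowerSeries.C t) = 0 := by
    rw [map_sub, map_mul, hψ0, hψ1, hUV, QuadMorse.map_C, sub_self]
  have hgg : MvPowerSeries.map χ.toRingHom
      (MvPowerSeries.X 0 * MvPowerSeries.X 1 - MvPowerSeries.C t : MvPowerSeries (Fin 2) R) =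
      MvPowerSeries.X 0 * MvPowerSeries.X 1 := by
    have hn : (seq 0).1.1 = 0 := rfl
    have ht0 : t ∈ maximalIdeal R := by
      have h1 := ht 1
      rw [pow_one] at h1
      have h0 : (seq 1).1.1 ∈ maximalIdeal R := by
        have := (hnext 0 (seq 0)).2.1
        rw [zero_add, pow_one, ← hsucc, hn, sub_zero] at this
        exact this
      have := sub_mem h0 h1
      simpa using this
    rw [← hχ, RingHom.mem_ker] at ht0
    simp only [map_sub, map_mul, MvPowerSeries.map_X, MvPowerSeries.map_C]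
    rw [show χ.toRingHom t = 0 from ht0, map_zero, sub_zero]
  have hkerψ := bijective_of_fibre χ.toRingHom hχ hχs π.toRingHom hπ ψ₀.toRingHom hker₀ ψ hψs hcomm hg hgg
  let F := ((Ideal.quotientEquivAlgOfEq R hkerψ).symm.trans (Ideal.quotientKerAlgEquivOfSurjective hψs)).symm
  have hFs : ∀ f, F.symm (Ideal.Quotient.mk _ f) = ψ f := fun f => rfl
  have hF : ∀ f, F (ψ f) = Ideal.Quotient.mk _ f := fun f => by rw [← hFs, AlgEquiv.apply_symm_apply]
  refine ⟨t, ξ₁, ξ₂, hξ₁, hξ₂, fun h => ?_, F, ?_, ?_⟩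
  · have hξ1 : ξ = -1 := by
      show ξ₁ * ξ₂ = -1
      rw [h, neg_mul, ← sq, hξ₂]
    refine IsHausdorff.haus (I := maximalIdeal R) inferInstance t fun n => ?_
    rw [SModEq.sub_mem, sub_zero, Ideal.smul_eq_mul, Ideal.mul_top]
    have := ht n
    rwa [(seq n).2.1 hξ1, zero_sub, neg_mem_iff] at this
  · rw [hFs, hψ0, hσU, ← hψ0, IsScalarTower.algebraMap_apply k R S, ← Algebra.smul_def, map_smul, hF]
  · rw [hFs, hψ1, hσV, ← hψ1, IsScalarTower.algebraMap_apply k R S, ← Algebra.smul_def, map_smul, hF]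

end Groth.Agent.NodeInv70
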